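import Cfsg.Agent.H972.TwOv.Over
import Cfsg.Agent.H28.TwOv.Transfer
import Cfsg.Agent.H28.TwOv.OddOpp
import Cfsg.Agent.H243.TwOpp.Even
import Cfsg.Agent.H243.TwOpp.Test
import Cfsg.Agent.H655.TwOv.Syl
import Cfsg.Agent.H86.TabNS

/-!
# Overgroups of `³D₄(q₀)` in `³D₄(q)`, `q = q₀ ^ p`, `p > 3` (S2187, X6; helper972)

* `fixed` : an overgroup `H` of the elements fixed by `ψ` is everything or fixed by `ψ`;
* `over_d4` : the same with matrices over a subfield.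
-/

set_option autoImplicit false

namespace Cfsg.Agent.H972.TwOv

open Cfsg.Lie Cfsg.Agent.ChevalleyStructure Cfsg.Agent.H82.Level Cfsg.Agent.H28.TwOv
open Cfsg.Agent.ChevalleyStructure.RootCombGood (co car)
open Cfsg.Agent.ChevalleyStructure.D4Fixed (sig fix mem_fix twisted_le_fix twisted_induction)
open Cfsg.Agent.ChevalleyStructure.D4U (na nb na_mem nb_mem phi3)
open Cfsg.Agent.H82.TwD4 (hD4 slD4 twD4 rho eps Lo cl pos_of_mem X X_zero X_eqU X_eq sig_X Xt_eq Xt_mem_U tw J)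
open Cfsg.Agent.H86.Par (top P)
open Cfsg.Agent.H86.Graded (Q)

universe u

theorem hodd_d4 : ∃ s < chevD4.nroots, car chevD4 (top chevD4) s = 0 ∧ ∃ i < chevD4.rank,
    rho (chevD4.simple i) = chevD4.simple i ∧ rho (chevD4.neg (chevD4.simple i)) = chevD4.neg (chevD4.simple i) ∧
    1 ≤ car chevD4 (top chevD4) (chevD4.reflectRoot i s) := by decide +kernel

theorem real_of_rho : ∀ s < 24, rho s = s → s ∈ [14, 22, 23, 0, 1, 9] := by decide +kernel

section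

variable {K : Type u} [Field K] [Fintype K] {q₀ p q : ℕ} {φ ψ : K →+* K} (hq₀ : 1 < q₀) (hp : p.Prime) (hp3 : 3 < p)
  (hq : q = q₀ ^ p) (hK : Fintype.card K = q ^ 3) (hφ : ∀ t, φ t = t ^ q) (hψ : ∀ t, ψ t = t ^ (q₀ ^ 3))
  {H : Subgroup (GL chevD4.Idx K)} (hHG : H ≤ twistedD4 K q)
  (hU : ∀ u ∈ chevD4.posUnipotent K, sig φ u = u → H82.TwMax.fr chevD4 ψ u = u → u ∈ H) (hna : na K ∈ H)
  (hnb : nb K ∈ H)

include hφ in
omit [Fintype K] in
theorem twisted_le_group : twistedD4 K q ≤ chevD4.group K := by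
  refine twisted_induction hφ (fun t _ => ?_) (fun t _ => ?_) (fun t => ?_) (fun t => ?_)
  · rw [← X_eqU]
    exact Elts.xG_mem_group hD4 14 t
  · rw [← X_eqU]
    exact Elts.xG_mem_group hD4 9 t
  · rw [Xt_eq]
    exact mul_mem (mul_mem (Elts.xG_mem_group hD4 _ _) (Elts.xG_mem_group hD4 _ _)) (Elts.xG_mem_group hD4 _ _)
  · unfold D4Fixed.Y
    rw [← X_eqU, ← X_eqU, ← X_eqU]
    exact mul_mem (mul_mem (Elts.xG_mem_group hD4 _ _) (Elts.xG_mem_group hD4 _ _)) (Elts.xG_mem_group hD4 _ _)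

include hU hna hnb in
omit [Fintype K] in
theorem real_one : ∀ s < chevD4.nroots, rho s = s → ∀ c : K, c = 1 ∨ c = -1 → Elts.xG hD4 s c ∈ H := by
  intro s hs h c hc
  refine real_mem hU hna hnb (real_of_rho s hs h) ?_ ?_
  · rcases hc with rfl | rfl <;> simp
  · rcases hc with rfl | rfl <;> simp

include hq₀ hp hp3 hq hK hφ hψ hHG hU hna hnb in
/-- **The conclusion.** -/
theorem fixed (hne : H ≠ twistedD4 K q) : ∀ g ∈ H, H92.ChevFrob.fr chevD4 ψ g = g := by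
  have V := ovh hq₀ hp hp3 hq hK hφ hψ hHG hU hna hnb hne
  have he : ∀ r ∈ Lo.flatten, ht chevD4 r = 1 → eps r = 1 := by decide +kernel
  have hR := real_one hU hna hnb
  have hG : H ≤ chevD4.group K := hHG.trans (twisted_le_group hφ)
  have hx : Elts.xG hD4 (top chevD4) (1 : K) ∈ H := by
    rw [top_eq]
    exact hR 23 (by decide) rfl 1 (Or.inl rfl)
  have hx0 : ∀ c : K, c = 1 ∨ c = -1 → Elts.xG hD4 0 c ∈ H := hR 0 (by decide) rfl
  have hn : Elts.nG hD4 (top chevD4) (1 : K) ∈ H := by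
    rw [Elts.nG_def, H86.Par.neg_top hD4]
    exact mul_mem hx (mul_mem (hx0 _ (by right; rw [inv_one])) hx)
  obtain ⟨e, heH, heU, hce⟩ := exists_reg V he
  refine fixed_d4 hq₀ hp hp3 hq hK hφ hψ hHG hU hna hnb hne ?_
  intro hA hC hP hB hF hCQ
  obtain ⟨r, hr⟩ := CharP.exists K
  have hrp : r.Prime := CharP.char_is_prime K r
  have : Fact r.Prime := ⟨hrp⟩
  by_cases h2 : r = 2
  · subst h2
    exact H243.TwOpp.even_opp hD4 H86.Lev.hpD4 H86.Lev.hnD4 hG (fun q => sig φ q = q) hA hC hP hF hx hn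
      (H243.TwOpp.ht_d4 hR hU) hCQ (H655.TwOv.exists_sylow hD4 slD4 2 hG heH heU hce)
  · exact odd_opp hD4 H86.Lev.hpD4 H86.Lev.hnD4 r h2 hG (fun q => sig φ q = q) hA hC hP hB hF (fun s => rho s = s) hR
      (by rw [top_eq]; rfl) rfl hodd_d4

end

/-- **Overgroups of the subfield subgroup.** -/
theorem over_d4 {K : Type u} [Field K] [Fintype K] (r : ℕ) [Fact r.Prime] [CharP K r] {q q0 p : ℕ}
    (hq0 : ∃ a, 1 ≤ a ∧ q0 = r ^ a) (hp : p.Prime) (hp3 : 3 < p) (hq : q = q0 ^ p) (hK : Fintype.card K = q ^ 3)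
    (K0 : Subfield K) (hK0 : Nat.card K0 = q0 ^ 3) (H : Subgroup (GL chevD4.Idx K)) (hHG : H ≤ twistedD4 K q)
    (hL : ∀ g ∈ twistedD4 ↥K0 q, Units.map (RingHom.mapMatrix K0.subtype).toMonoidHom g ∈ H) :
    H = twistedD4 K q ∨ ∀ g ∈ H, ∀ i j, ((g : Matrix chevD4.Idx chevD4.Idx K) i j) ^ (q0 ^ 3) =
      (g : Matrix chevD4.Idx chevD4.Idx K) i j := by
  classical
  obtain ⟨a, ha, rfl⟩ := hq0
  have hrp : r.Prime := Fact.out
  have : ExpChar K r := ExpChar.prime hrp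
  have : CharP K0 r := Subfield.charP K0 r
  have : ExpChar K0 r := ExpChar.prime hrp
  have : Fintype K0 := Fintype.ofFinite K0
  have hq₀ : 1 < r ^ a := Nat.one_lt_pow (by omega) hrp.one_lt
  obtain ⟨φ, hφ⟩ : ∃ φ : K →+* K, ∀ t, φ t = t ^ q :=
    ⟨iterateFrobenius K r (a * p), fun t => by rw [iterateFrobenius_def, hq, pow_mul]⟩
  obtain ⟨ψ, hψ⟩ : ∃ ψ : K →+* K, ∀ t, ψ t = t ^ ((r ^ a) ^ 3) :=
    ⟨iterateFrobenius K r (a * 3), fun t => by rw [iterateFrobenius_def, pow_mul]⟩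
  obtain ⟨φ₀, hφ₀⟩ : ∃ φ₀ : K0 →+* K0, ∀ t, φ₀ t = t ^ q :=
    ⟨iterateFrobenius K0 r (a * p), fun t => by rw [iterateFrobenius_def, hq, pow_mul]⟩
  have hf : ∀ b : K0, K0.subtype (φ₀ b) = φ (K0.subtype b) := fun b => by rw [hφ₀, hφ, map_pow]
  have hφφ₀ : ∀ t, φ₀ (φ₀ (φ₀ t)) = t := by
    intro t
    apply K0.subtype.injective
    rw [hf, hf, hf, phi3 hK hφ]
  have hcK : Fintype.card K = ((r ^ a) ^ 3) ^ p := by
    rw [hK, hq, ← pow_mul, mul_comm p 3, pow_mul]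
  have hψ' : ∀ t, ψ t = t → ∃ b, K0.subtype b = t := by
    have h1 := D4U.card_fix_field (q := (r ^ a) ^ 3) (Nat.one_lt_pow (by norm_num) hq₀) hcK hψ
    have h2 : ∀ b : K0, ψ (b : K) = b := by
      intro b
      have h3 : b ^ Fintype.card K0 = b := FiniteField.pow_card b
      rw [← Nat.card_eq_fintype_card, hK0] at h3
      rw [hψ]
      exact congrArg Subtype.val h3
    let g : K0 → {t : K // ψ t = t} := fun b => ⟨b, h2 b⟩
    have hg : Function.Injective g := by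
      intro b c h
      have h3 : (b : K) = c := congrArg (fun z : {t : K // ψ t = t} => (z : K)) h
      exact Subtype.ext h3
    have hb := hg.bijective_of_nat_card_le (by rw [h1, hK0])
    intro t ht
    obtain ⟨b, hb⟩ := hb.2 ⟨t, ht⟩
    exact ⟨b, congrArg (fun z : {t : K // ψ t = t} => (z : K)) hb⟩
  have hL' : ∀ g ∈ twistedD4 ↥K0 q, mp chevD4 K0.subtype g ∈ H := hL
  by_cases hne : H = twistedD4 K q
  · exact Or.inl hne
  · right
    have h1 := fixed hq₀ hp hp3 hq hK hφ hψ hHG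
      (by
        intro u hu hs hfu
        obtain ⟨u₀, hu₀, e⟩ := memU_d4 K0.subtype hφ₀ hφφ₀ hφ hK hf hψ' hu hs hfu
        rw [← e]
        exact hL' _ hu₀)
      (by
        obtain ⟨u₀, hu₀, e⟩ := na_d4 K0.subtype hφ₀
        rw [← e]
        exact hL' _ hu₀)
      (by
        obtain ⟨u₀, hu₀, e⟩ := nb_d4 K0.subtype hφ₀
        rw [← e]
        exact hL' _ hu₀) hne
    intro g hg i j
    have h2 := h1 g hg
    rw [← hψ]
    exact congrArg (fun z : GL chevD4.Idx K => (z : Matrix chevD4.Idx chevD4.Idx K) i j) h2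

end Cfsg.Agent.H972.TwOv
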