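import Cfsg.Agent.H972.TwOv.Tab

/-!
# `³D₄`: real roots and the full subfield (S2187, X6; helper972)

`card K = q ^ 3`, `q = q₀ ^ p`, `φ t = t ^ q`, `ψ t = t ^ (q₀ ^ 3)`, `H ≤ ³D₄(q)` contains the elements of `U` fixed
by `sig φ` and `ψ` and the two elements of `N`.

* `real_mem` : `X r c ∈ H` for the six roots fixed by `rho` and rational `c`;
* `full_d4` : an element `X 23 t ∈ H` with `ψ t ≠ t` gives `H = ³D₄(q)`.
-/

set_option autoImplicit false

namespace Cfsg.Agent.H972.TwOv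

open Cfsg.Lie Cfsg.Agent.ChevalleyStructure Cfsg.Agent.H82.Level Cfsg.Agent.H82.TwMax Cfsg.Agent.H28.TwOv
open Cfsg.Agent.ChevalleyStructure.RootCombGood (co car)
open Cfsg.Agent.ChevalleyStructure.RootWord (wact)
open Cfsg.Agent.ChevalleyStructure.TwistedU
open Cfsg.Agent.ChevalleyStructure.D4Fixed (sig fix mem_fix twisted_le_fix twisted_induction)
open Cfsg.Agent.ChevalleyStructure.D4U (na nb na_mem nb_mem phi3 U_inf_eq)
open Cfsg.Agent.H82.TwD4 (hD4 slD4 twD4 rho eps Lo cl pos_of_mem X X_zero X_eqU sig_X na_X nb_X Xt_eq Xt_mem_U V_add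
  V_neg tw X_zero')
open scoped commutatorElement

universe u

section Move

variable {K : Type u} [Field K] {H : Subgroup (GL chevD4.Idx K)}

theorem X_neg_mem {r : ℕ} {t : K} (h : X r (-t) ∈ H) : X r t ∈ H := by
  have h1 : X r t = (X r (-t))⁻¹ := by
    show Elts.xG hD4 r t = (Elts.xG hD4 r (-t))⁻¹
    rw [Elts.xG_inv, neg_neg]
  rw [h1]
  exact inv_mem h

theorem X_sign_mem {r : ℕ} {t ζ : K} (hζ : ζ = 1 ∨ ζ = -1) (h : X r (ζ * t) ∈ H) : X r t ∈ H := by
  rcases hζ with rfl | rfl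
  · rwa [one_mul] at h
  · rw [neg_one_mul] at h
    exact X_neg_mem h

theorem na_move (hna : na K ∈ H) {s : ℕ} (hs : s < 24) {t : K} (h : X s t ∈ H) : X (D4NCheck.rfl' 1 s) t ∈ H := by
  obtain ⟨ζ, hζ, h1⟩ := na_X (K := K) hs
  refine X_sign_mem hζ ?_
  rw [← h1]
  exact mul_mem (mul_mem hna h) (inv_mem hna)

theorem nb_move (hnb : nb K ∈ H) {s : ℕ} (hs : s < 24) {t : K} (h : X s t ∈ H) : X (D4U.rb s) t ∈ H := by
  obtain ⟨ζ, hζ, h1⟩ := nb_X (K := K) hs
  refine X_sign_mem hζ ?_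
  rw [← h1]
  exact mul_mem (mul_mem hnb h) (inv_mem hnb)

/-- the six real roots are conjugate under `⟨n_a, n_b⟩` -/
theorem real_all (hna : na K ∈ H) (hnb : nb K ∈ H) {t : K} (h : X 23 t ∈ H) :
    ∀ r ∈ [14, 22, 23, 0, 1, 9], X r t ∈ H := by
  have e1 : D4NCheck.rfl' 1 23 = 22 := by decide +kernel
  have e2 : D4U.rb 22 = 14 := by decide +kernel
  have e3 : D4NCheck.rfl' 1 14 = 9 := by decide +kernel
  have e4 : D4U.rb 9 = 1 := by decide +kernel
  have e5 : D4NCheck.rfl' 1 1 = 0 := by decide +kernel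
  have h22 : X 22 t ∈ H := by rw [← e1]; exact na_move hna (by norm_num) h
  have h14 : X 14 t ∈ H := by rw [← e2]; exact nb_move hnb (by norm_num) h22
  have h9 : X 9 t ∈ H := by rw [← e3]; exact na_move hna (by norm_num) h14
  have h1 : X 1 t ∈ H := by rw [← e4]; exact nb_move hnb (by norm_num) h9
  have h0 : X 0 t ∈ H := by rw [← e5]; exact na_move hna (by norm_num) h1
  intro r hr
  simp only [List.mem_cons, List.not_mem_nil, or_false] at hr
  rcases hr with rfl | rfl | rfl | rfl | rfl | rfl <;> assumption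

theorem real_top (hna : na K ∈ H) (hnb : nb K ∈ H) {t : K} (h : X 14 t ∈ H) : X 23 t ∈ H := by
  have e1 : D4U.rb 14 = 22 := by decide +kernel
  have e2 : D4NCheck.rfl' 1 22 = 23 := by decide +kernel
  have h22 : X 22 t ∈ H := by rw [← e1]; exact nb_move hnb (by norm_num) h
  rw [← e2]
  exact na_move hna (by norm_num) h22

theorem X_add_mem {r : ℕ} {s t : K} (hs : X r s ∈ H) (ht : X r t ∈ H) : X r (s + t) ∈ H := by
  have h1 : X r (s + t) = X r s * X r t := (Elts.xG_add hD4 r s t).symm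
  rw [h1]
  exact mul_mem hs ht

/-- the set of parameters is closed under multiplication -/
theorem top_mul (hna : na K ∈ H) (hnb : nb K ∈ H) {s t : K} (hs : X 23 s ∈ H) (ht : X 23 t ∈ H) :
    X 23 (s * t) ∈ H := by
  have h14 := real_all hna hnb hs 14 (by simp)
  have h22 := real_all hna hnb ht 22 (by simp)
  have h1 : ⁅(X 14 s : GL chevD4.Idx K), X 22 t⁆ ∈ H := by
    rw [commutatorElement_def]
    exact mul_mem (mul_mem (mul_mem h14 h22) (inv_mem h14)) (inv_mem h22)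
  have h2 : ⁅(X 14 s : GL chevD4.Idx K), X 22 t⁆ = X 22 t * X 23 ((kap chevD4 14 22 : K) * (s * t)) * (X 22 t)⁻¹ := by
    have h3 := comm_X (K := K) hD4 slD4 (r := 14) (s := 22) (by decide) (by decide) (by decide) (by decide +kernel) s t
    have h4 : add chevD4 14 22 = 23 := by decide +kernel
    rw [h4] at h3
    exact h3
  rw [h2] at h1
  have h3 : X 23 ((kap chevD4 14 22 : K) * (s * t)) ∈ H := by
    have e : X 23 ((kap chevD4 14 22 : K) * (s * t)) = (X 22 t)⁻¹ * (X 22 t * X 23 ((kap chevD4 14 22 : K) * (s * t)) *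
      (X 22 t)⁻¹) * X 22 t := by group
    rw [e]
    exact mul_mem (mul_mem (inv_mem h22) h1) h22
  refine X_sign_mem ?_ h3
  have h5 : kap chevD4 14 22 = 1 ∨ kap chevD4 14 22 = -1 := by decide +kernel
  rcases h5 with h5 | h5 <;> rw [h5] <;> simp

end Move

section Full

variable {K : Type u} [Field K] [Fintype K] {q₀ p q : ℕ} {φ ψ : K →+* K} (hq₀ : 1 < q₀) (hp : p.Prime) (hp3 : 3 < p)
  (hq : q = q₀ ^ p) (hK : Fintype.card K = q ^ 3) (hφ : ∀ t, φ t = t ^ q) (hψ : ∀ t, ψ t = t ^ (q₀ ^ 3))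
  {H : Subgroup (GL chevD4.Idx K)} (hHG : H ≤ twistedD4 K q)
  (hU : ∀ u ∈ chevD4.posUnipotent K, sig φ u = u → fr chevD4 ψ u = u → u ∈ H) (hna : na K ∈ H) (hnb : nb K ∈ H)

include hU in
omit [Fintype K] in
/-- the positive real roots -/
theorem real_pos {r : ℕ} (hr : r ∈ [14, 22, 23]) {c : K} (h1 : φ c = c) (h2 : ψ c = c) : X r c ∈ H := by
  have h3 : ∀ r ∈ [14, 22, 23], r ∈ Lo.flatten ∧ rho r = r ∧ eps r = 1 := by decide
  obtain ⟨h4, h5, h6⟩ := h3 r hr
  refine hU _ (Elts.xG_mem_posUnipotent hD4 (pos_of_mem h4) _) ?_ ?_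
  · rw [sig_X φ r (pos_of_mem h4), h5, h6, h1, Int.cast_one, one_mul]
  · rw [fr_X, h2]

include hU hna hnb in
omit [Fintype K] in
/-- **D2** -/
theorem real_mem {r : ℕ} (hr : r ∈ [14, 22, 23, 0, 1, 9]) {c : K} (h1 : φ c = c) (h2 : ψ c = c) : X r c ∈ H :=
  real_all hna hnb (real_pos hU (by simp) h1 h2) r hr

include hK hφ hψ hU in
/-- the elements `X(a)` with `a` in the subfield -/
theorem Xt_mem {a : K} (ha : ψ a = a) : D4Fixed.X φ a ∈ H := by
  have hc : ∀ t, ψ (φ t) = φ (ψ t) := fun t => by rw [hφ, hψ, hψ, hφ, ← pow_mul, ← pow_mul, mul_comm]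
  refine hU _ (Xt_mem_U a) (D4Fixed.fix_X φ (phi3 hK hφ a)) ?_
  rw [Xt_eq, map_mul, map_mul, fr_X, fr_X, fr_X, hc, hc, hc, ha]

omit [Fintype K] in
/-- multiplication by scalars -/
theorem Xt_smul (hreal : ∀ c, φ c = c → ∀ r ∈ [14, 22, 23, 0, 1, 9], X r c ∈ H) {c s : K}
    (hc : φ c = c) (hs : D4Fixed.X φ s ∈ H) : D4Fixed.X φ (c * s) ∈ H := by
  by_cases hc0 : c = 0
  · rw [hc0, zero_mul, X_zero']
    exact one_mem _
  have hd0 : c⁻¹ ≠ 0 := inv_ne_zero hc0
  have hd : φ c⁻¹ = c⁻¹ := by rw [map_inv₀, hc]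
  have hneg : chevD4.neg 14 = 9 := by decide +kernel
  have hn : ∀ d : K, φ d = d → Elts.nG hD4 14 d ∈ H := by
    intro d hd
    rw [Elts.nG_def, hneg]
    refine mul_mem (hreal d hd 14 (by simp)) (mul_mem (hreal _ ?_ 9 (by simp)) (hreal d hd 14 (by simp)))
    rw [map_neg, map_inv₀, hd]
  have h1 : Elts.hG hD4 14 c⁻¹ ∈ H := by
    rw [Elts.hG_def]
    exact mul_mem (hn _ hd) (hn _ (by rw [map_neg, map_one]))
  have e14 : chevD4.simple 1 = 14 := by decide +kernel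
  have key : ∀ s, s < 24 → chevD4.cartan 1 s = -1 → ∀ a : K,
      Elts.hG hD4 14 c⁻¹ * X s a * (Elts.hG hD4 14 c⁻¹)⁻¹ = X s (c * a) := by
    intro s hs hcar a
    have h2 := BruhatSplit.hG_simple_conj hD4 (i := 1) (s := s) (by decide) hs hd0 a
    rw [e14, hcar, zpow_neg_one, inv_inv] at h2
    exact h2
  have e : Elts.hG hD4 14 c⁻¹ * D4Fixed.X φ s * (Elts.hG hD4 14 c⁻¹)⁻¹ = D4Fixed.X φ (c * s) := by
    rw [Xt_eq, Xt_eq, map_mul, map_mul, hc, hc, ← key 18 (by norm_num) (by decide +kernel),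
      ← key 13 (by norm_num) (by decide +kernel), ← key 12 (by norm_num) (by decide +kernel)]
    group
  rw [← e]
  exact mul_mem (mul_mem h1 hs) (inv_mem h1)

include hq₀ hp hp3 hq hK hφ hψ hHG hU hna hnb in
/-- **D3** -/
theorem full_d4 {t : K} (ht : X 23 t ∈ H) (hψt : ψ t ≠ t) : H = twistedD4 K q := by
  have hp3' : ¬ 3 ∣ p := by
    intro h
    have := (Nat.prime_dvd_prime_iff_eq Nat.prime_three hp).1 h
    omega
  have hq1 : 1 < q := by
    rw [hq]
    exact Nat.one_lt_pow hp.ne_zero hq₀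
  have hfix := twisted_le_fix hK hφ
  -- the parameter is fixed by `φ`
  have htφ : φ t = t := by
    have h1 : sig φ (X 23 t) = X 23 t := hfix (hHG ht)
    have e1 : rho 23 = 23 := rfl
    have e2 : eps 23 = 1 := rfl
    rw [sig_X φ 23 (pos_of_mem (by decide)), e1, e2, Int.cast_one, one_mul] at h1
    exact Elts.xG_injective hD4 (by decide) h1
  -- all real parameters
  have hA : ∀ c, φ c = c → X 23 c ∈ H :=
    fix_min hq₀ hp3' hq hK hφ hψ hp (S := {c | X 23 c ∈ H}) (fun c h1 h2 => real_pos hU (by simp) h1 h2)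
      (fun a ha b hb => X_add_mem ha hb) (fun a ha b hb => top_mul hna hnb ha hb) ht htφ hψt
  have hreal : ∀ c, φ c = c → ∀ r ∈ [14, 22, 23, 0, 1, 9], X r c ∈ H := fun c hc => real_all hna hnb (hA c hc)
  -- all parameters
  obtain ⟨κ, hκ1, hκ2⟩ := exists_kappa hq₀ hp3' hq hK hφ hψ
  have hX : ∀ x, D4Fixed.X φ x ∈ H := by
    intro x
    obtain ⟨a, b, c, ha, hb, hc, rfl⟩ := H82.TwD4.span hφ hK hκ2 hq1 x
    refine V_add (V_add ?_ ?_) ?_
    · have h1 := Xt_smul hreal ha (Xt_mem hK hφ hψ hU (map_one ψ))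
      rwa [mul_one] at h1
    · exact Xt_smul hreal hb (Xt_mem hK hφ hψ hU hκ1)
    · exact Xt_smul hreal hc (Xt_mem hK hφ hψ hU (by rw [map_pow, hκ1]))
  refine le_antisymm hHG (twisted_induction hφ ?_ ?_ hX ?_)
  · intro s hs
    rw [← X_eqU]
    exact hreal s hs 14 (by simp)
  · intro s hs
    rw [← X_eqU]
    exact hreal s hs 9 (by simp)
  · intro s
    have hY : D4Fixed.Y φ s ∈ D4U.RS K [5, 10, 11] := by
      unfold D4Fixed.Y
      rw [D4U.xU_eq, D4U.xU_eq, D4U.xU_eq]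
      exact mul_mem (mul_mem (mem_rspan _ (S := {k | k ∈ [5, 10, 11]}) (by simp) _)
        (mem_rspan _ (S := {k | k ∈ [5, 10, 11]}) (by simp) _))
        (mem_rspan _ (S := {k | k ∈ [5, 10, 11]}) (by simp) _)
    have h1 : (nb K)⁻¹ * D4Fixed.Y φ s * nb K ∈ D4U.RS K [18, 13, 12] :=
      D4Twisted.nb_inv_RS K (by decide +kernel) hY
    have h2 : (nb K)⁻¹ * D4Fixed.Y φ s * nb K ∈ twistedD4 K q :=
      mul_mem (mul_mem (inv_mem (nb_mem hφ)) (D4Fixed.Y_mem hφ s)) (nb_mem hφ)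
    obtain ⟨a, ha⟩ := D4U.RS_outer_fix h1 (hfix h2)
    have e : D4Fixed.Y φ s = nb K * D4Fixed.X φ a * (nb K)⁻¹ := by rw [← ha]; group
    rw [e]
    exact mul_mem (mul_mem hnb (hX a)) (inv_mem hnb)

end Full

end Cfsg.Agent.H972.TwOv
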