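import Cfsg.Agent.H972.TwOv.Fld
import Cfsg.Agent.H28.TwOv.Stage
import Cfsg.Agent.H86.Par

/-!
# `³D₄`: independence and tables (S2187, X6; helper972)

* `ind_d4` : `Ind chevD4 Lo.flatten rho eps φ ψ`;
* tables for `top = 23`, the highest level, the real roots, the stages `23` and `22`;
* `last` : the last stage of the chain.
-/

set_option autoImplicit false

namespace Cfsg.Agent.H972.TwOv

open Cfsg.Lie Cfsg.Agent.ChevalleyStructure Cfsg.Agent.H82.Level Cfsg.Agent.H82.TwMax Cfsg.Agent.H28.TwOv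
open Cfsg.Agent.ChevalleyStructure.RootCombGood (co car)
open Cfsg.Agent.ChevalleyStructure.RootWord (wact)
open Cfsg.Agent.H82.TwD4 (hD4 slD4 twD4 rho eps Lo cl pos_of_mem)

universe u

section Ind

variable {K : Type u} [Field K] [Fintype K] {q₀ q : ℕ} {φ ψ : K →+* K}
  (hK : Fintype.card K = q ^ 3) (hφ : ∀ t, φ t = t ^ q) (hψ : ∀ t, ψ t = t ^ (q₀ ^ 3))

include hK hφ hψ in
/-- an orbit of length three -/
theorem ind_three {κ : K} (h1 : ψ κ = κ) (h2 : φ κ ≠ κ) {x y z : ℕ} (hx : x ∈ Lo.flatten) (hy : y ∈ Lo.flatten)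
    (hz : z ∈ Lo.flatten) (hxy : x ≠ y) (hxz : x ≠ z) (hyz : y ≠ z) (rx : rho x = y) (ry : rho y = z) (rz : rho z = x)
    (ex : eps x = 1 ∨ eps x = -1) (ey : eps y = 1 ∨ eps y = -1) (ee : eps x * eps y * eps z = 1) {B : ℕ → K}
    (hB : ∀ τ : ℕ → K, (∀ r ∈ Lo.flatten, τ (rho r) = (eps r : K) * φ (τ r)) → (∀ r, ψ (τ r) = τ r) →
      (∀ r ∈ Lo.flatten, r ≠ x → r ≠ y → r ≠ z → τ r = 0) → ∑ s ∈ Lo.flatten.toFinset, τ s * B s = 0) :
    B x = 0 ∧ B y = 0 ∧ B z = 0 := by
  have hφ3 := D4U.phi3 hK hφ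
  have hc : ∀ t, ψ (φ t) = φ (ψ t) := fun t => by rw [hφ, hψ, hψ, hφ, ← pow_mul, ← pow_mul, mul_comm]
  have hinj := twD4.rho_inj
  have key : ∀ a, ψ a = a → a * B x + φ a * ((eps x : K) * B y) + φ (φ a) * ((eps x * eps y : ℤ) * B z) = 0 := by
    intro a ha
    obtain ⟨τ, hτ⟩ : ∃ τ : ℕ → K, τ = fun s => if s = x then a else if s = y then (eps x : K) * φ a else
      if s = z then (eps y : K) * ((eps x : K) * φ (φ a)) else 0 := ⟨_, rfl⟩
    have tx : τ x = a := by rw [hτ]; simp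
    have ty : τ y = (eps x : K) * φ a := by rw [hτ]; simp [hxy.symm]
    have tz : τ z = (eps y : K) * ((eps x : K) * φ (φ a)) := by rw [hτ]; simp [hxz.symm, hyz.symm]
    have t0 : ∀ s, s ≠ x → s ≠ y → s ≠ z → τ s = 0 := by
      intro s h3 h4 h5
      rw [hτ]
      simp [h3, h4, h5]
    have h3 := hB τ (by
      intro r hr
      by_cases hrx : r = x
      · subst hrx
        rw [rx, ty, tx]
      by_cases hry : r = y
      · subst hry
        rw [ry, ty, tz, map_mul, map_intCast]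
      by_cases hrz : r = z
      · subst hrz
        rw [rz, tx, tz, map_mul, map_mul, map_intCast, map_intCast, hφ3]
        have h4 : ((eps x * eps y * eps r : ℤ) : K) = 1 := by rw [ee, Int.cast_one]
        push_cast at h4
        linear_combination (-a) * h4
      · have hlt := twD4.lt r hr
        rw [t0 r hrx hry hrz, map_zero, mul_zero]
        refine t0 _ (fun e => hrz ?_) (fun e => hrx ?_) (fun e => hry ?_)
        · exact hinj r hlt z (twD4.lt z hz) (by rw [e, rz])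
        · exact hinj r hlt x (twD4.lt x hx) (by rw [e, rx])
        · exact hinj r hlt y (twD4.lt y hy) (by rw [e, ry])) (by
      intro r
      by_cases hrx : r = x
      · subst hrx
        rw [tx, ha]
      by_cases hry : r = y
      · subst hry
        rw [ty, map_mul, map_intCast, hc, ha]
      by_cases hrz : r = z
      · subst hrz
        rw [tz, map_mul, map_mul, map_intCast, map_intCast, hc, hc, ha]
      · rw [t0 r hrx hry hrz, map_zero]) (fun r _ => t0 r)
    have h4 : ∑ s ∈ Lo.flatten.toFinset, τ s * B s = ∑ s ∈ ({x, y, z} : Finset ℕ), τ s * B s := by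
      symm
      refine Finset.sum_subset ?_ ?_
      · intro s hs
        rw [Finset.mem_insert, Finset.mem_insert, Finset.mem_singleton] at hs
        rw [List.mem_toFinset]
        rcases hs with rfl | rfl | rfl <;> assumption
      · intro s _ hs
        rw [Finset.mem_insert, Finset.mem_insert, Finset.mem_singleton] at hs
        push Not at hs
        rw [t0 s hs.1 hs.2.1 hs.2.2, zero_mul]
    rw [h4, Finset.sum_insert (by simp [hxy, hxz]), Finset.sum_insert (by simp [hyz]), Finset.sum_singleton, tx, ty, tz] at h3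
    push_cast
    linear_combination h3
  obtain ⟨h3, h4, h5⟩ := indep_of hK hφ hψ h1 h2 key
  have hex : (eps x : K) ≠ 0 := by rcases ex with e | e <;> rw [e] <;> simp
  have hey : (eps y : K) ≠ 0 := by rcases ey with e | e <;> rw [e] <;> simp
  refine ⟨h3, (mul_eq_zero.1 h4).resolve_left hex, (mul_eq_zero.1 h5).resolve_left ?_⟩
  push_cast
  exact mul_ne_zero hex hey

omit [Fintype K] in
/-- a real root -/
theorem ind_one {x : ℕ} (hx : x ∈ Lo.flatten) (rx : rho x = x) (ex : eps x = 1) {B : ℕ → K}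
    (hB : ∀ τ : ℕ → K, (∀ r ∈ Lo.flatten, τ (rho r) = (eps r : K) * φ (τ r)) → (∀ r, ψ (τ r) = τ r) →
      (∀ r ∈ Lo.flatten, r ≠ x → τ r = 0) → ∑ s ∈ Lo.flatten.toFinset, τ s * B s = 0) : B x = 0 := by
  have h3 := hB (fun s => if s = x then 1 else 0) (by
      intro r hr
      by_cases hrx : r = x
      · subst hrx
        simp [rx, ex]
      · have : rho r ≠ x := fun e => hrx (twD4.rho_inj r (twD4.lt r hr) x (twD4.lt x hx) (by rw [e, rx]))
        simp [hrx, this]) (by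
      intro r
      by_cases hrx : r = x
      · simp [hrx]
      · simp [hrx]) (fun r _ hr => by simp [hr])
  rw [Finset.sum_eq_single x] at h3
  · simpa using h3
  · intro s _ hs
    simp [hs]
  · intro h
    exact absurd (List.mem_toFinset.2 hx) h

include hK hφ hψ in
/-- **D1** -/
theorem ind_d4 {κ : K} (h1 : ψ κ = κ) (h2 : φ κ ≠ κ) : Ind chevD4 Lo.flatten rho eps φ ψ := by
  have three : ∀ x y z : ℕ, x ∈ Lo.flatten → y ∈ Lo.flatten → z ∈ Lo.flatten → x ≠ y → x ≠ z → y ≠ z → rho x = y →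
      rho y = z → rho z = x → (eps x = 1 ∨ eps x = -1) → (eps y = 1 ∨ eps y = -1) → eps x * eps y * eps z = 1 →
      ∀ B : ℕ → K, (∀ τ : ℕ → K, (∀ r ∈ Lo.flatten, τ (rho r) = (eps r : K) * φ (τ r)) → (∀ r, ψ (τ r) = τ r) →
        (∀ r ∈ Lo.flatten, (∀ k : ℕ, rho^[k] x ≠ r) → τ r = 0) → ∑ s ∈ Lo.flatten.toFinset, τ s * B s = 0) →
      B x = 0 := by
    intro x y z hx hy hz hxy hxz hyz rx ry rz ex ey ee B hB
    refine (ind_three hK hφ hψ h1 h2 hx hy hz hxy hxz hyz rx ry rz ex ey ee (B := B) fun τ t1 t2 t3 => hB τ t1 t2 ?_).1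
    intro r hr h3
    refine t3 r hr (fun e => h3 0 e.symm) (fun e => h3 1 ?_) (fun e => h3 2 ?_)
    · rw [e, Function.iterate_one, rx]
    · rw [e, ← ry, ← rx]; rfl
  have one : ∀ x : ℕ, x ∈ Lo.flatten → rho x = x → eps x = 1 →
      ∀ B : ℕ → K, (∀ τ : ℕ → K, (∀ r ∈ Lo.flatten, τ (rho r) = (eps r : K) * φ (τ r)) → (∀ r, ψ (τ r) = τ r) →
        (∀ r ∈ Lo.flatten, (∀ k : ℕ, rho^[k] x ≠ r) → τ r = 0) → ∑ s ∈ Lo.flatten.toFinset, τ s * B s = 0) →
      B x = 0 := by
    intro x hx rx ex B hB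
    exact ind_one hx rx ex (B := B) fun τ t1 t2 t3 => hB τ t1 t2 fun r hr h3 => t3 r hr fun e => h3 0 e.symm
  have hall : ∀ x ∈ Lo.flatten, (rho x = x ∧ eps x = 1) ∨ (rho x ∈ Lo.flatten ∧ rho (rho x) ∈ Lo.flatten ∧
      x ≠ rho x ∧ x ≠ rho (rho x) ∧ rho x ≠ rho (rho x) ∧ rho (rho (rho x)) = x ∧ (eps x = 1 ∨ eps x = -1) ∧
      (eps (rho x) = 1 ∨ eps (rho x) = -1) ∧ eps x * eps (rho x) * eps (rho (rho x)) = 1) := by decide
  intro j hj B hB
  rcases hall j hj with ⟨h3, h4⟩ | ⟨a1, a2, a3, a4, a5, a6, a7, a8, a9⟩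
  · exact one j hj h3 h4 B hB
  · exact three j _ _ hj a1 a2 a3 a4 a5 rfl rfl a6 a7 a8 a9 B hB

end Ind

/-! ### Tables -/

set_option maxRecDepth 100000

theorem top_pos : chevD4.IsPosRoot 23 := pos_of_mem (by decide)

theorem top_max : ∀ r, chevD4.IsPosRoot r → r ≠ 23 → ht chevD4 r < ht chevD4 23 := by
  have h1 : ∀ r ∈ Lo.flatten, r ≠ 23 → ht chevD4 r < ht chevD4 23 := by decide +kernel
  exact fun r hr => h1 r ((isPosRoot_iff twD4 r).2 hr)

theorem climb : ∀ r ∈ Lo.flatten, r ≠ 23 → ∃ j ∈ Lo.flatten, add chevD4 j r < chevD4.nroots := by decide +kernel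

theorem nroots : chevD4.nroots = 24 := by decide +kernel

theorem top_eq : H86.Par.top chevD4 = 23 := by decide +kernel

/-- (i) -/
theorem hlev : ∀ r < chevD4.nroots, chevD4.IsPosRoot r → car chevD4 (H86.Par.top chevD4) (rho r) =
    car chevD4 (H86.Par.top chevD4) r := by
  have h1 : ∀ r ∈ Lo.flatten, car chevD4 (H86.Par.top chevD4) (rho r) = car chevD4 (H86.Par.top chevD4) r := by
    decide +kernel
  exact fun r _ hr => h1 r ((isPosRoot_iff twD4 r).2 hr)

/-- (ii) -/
theorem hcl : ∀ r ∈ Lo.flatten, r ≠ H86.Par.top chevD4 → ∃ j ∈ Lo.flatten, car chevD4 (H86.Par.top chevD4) j = 1 ∧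
    add chevD4 j r < chevD4.nroots := by decide +kernel

theorem stageP0 : StageP chevD4 rho cl [23] [] 23 := by decide +kernel

theorem stageP1 : StageP chevD4 rho cl [] [23] 22 := by decide +kernel

theorem cl_lt : ∀ o ∈ cl, ∀ j ∈ o, j < chevD4.rank := by decide

theorem horb : ∀ o ∈ cl, ∀ j ∈ o, ∀ j' ∈ o, ∃ k, rho^[k] (chevD4.simple j) = chevD4.simple j' := by
  have : ∀ o ∈ cl, ∀ j ∈ o, ∀ j' ∈ o, ∃ k < 3, rho^[k] (chevD4.simple j) = chevD4.simple j' := by decide +kernel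
  intro o ho j hj j' hj'
  obtain ⟨k, -, hk⟩ := this o ho j hj j' hj'
  exact ⟨k, hk⟩

/-- **D4**: the last stage of the chain -/
theorem last {w : List ℕ} (hw : ∀ a ∈ w, a < chevD4.rank) (hw0 : wact chevD4 w 23 = 23) (hw1 : wact chevD4 w 22 = 22) :
    ∀ i < chevD4.rank, chevD4.IsPosRoot (wact chevD4 w (chevD4.simple i)) := by
  have Gd := RootComb.good_of_mem hD4
  intro i hi
  have hsl := Gd.simple_lt hi
  rcases RootWord.pos_or_neg Gd (RootWord.wact_lt Gd hw hsl) with hp | hp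
  · exact hp
  · exfalso
    have hneg := (RootWord.isPosRoot_neg Gd (RootWord.wact_lt Gd hw hsl)).2 hp
    have hnlt := RootWord.neg_lt Gd (RootWord.wact_lt Gd hw hsl)
    have c0 := RootWord.car_wact Gd hw hsl (s := 23) (by decide)
    have c1 := RootWord.car_wact Gd hw hsl (s := 22) (by decide)
    rw [hw0] at c0
    rw [hw1] at c1
    have d0 := RootWord.car_neg_left Gd (RootWord.wact_lt Gd hw hsl) 23
    have d1 := RootWord.car_neg_left Gd (RootWord.wact_lt Gd hw hsl) 22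
    have l0 := H82.TwD4.lp0 _ hnlt hneg (by simp)
    have t1 : ∀ i < 4, 0 ≤ car chevD4 (chevD4.simple i) 23 ∧ (car chevD4 (chevD4.simple i) 23 = 0 →
      0 < car chevD4 (chevD4.simple i) 22) := by decide +kernel
    obtain ⟨t2, t3⟩ := t1 i hi
    by_cases hz : car chevD4 (chevD4.simple i) 23 = 0
    · have l1 := H82.TwD4.lp1 _ hnlt hneg (by
        intro d hd
        rw [List.mem_singleton] at hd
        subst hd
        rw [d0, c0, hz, neg_zero])
      have := t3 hz
      omega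
    · omega

end Cfsg.Agent.H972.TwOv
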